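import Mathlib
import Cfsg.Prelude.Def_Transfer

/-!
# S1904 farm (architect helper12): definitions

Paper proof: `Cfsg/Agent/Lib/Helper12/SC3/Blueprint.lean` (comment-only file).

`X` is a finite `2`-group, `A ≤ MulAut X` of odd order with `[X, A] = X`, and every normal abelian subgroup of `X`
has `2`-rank at most `2` (`Hyp.rk`: an exponent-2 subgroup of a normal abelian subgroup has order at most 4).
-/

set_option autoImplicit false

namespace Cfsg.Agent.Lib.Helper12.SC3

variable {X : Type*} [Group X]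

/-- `N` is `A`-invariant -/
def Inv (A : Subgroup (MulAut X)) (N : Subgroup X) : Prop := ∀ φ ∈ A, ∀ x ∈ N, φ x ∈ N

/-- `N` is abelian -/
def Ab (N : Subgroup X) : Prop := ∀ a ∈ N, ∀ b ∈ N, a * b = b * a

/-- the standing hypotheses -/
structure Hyp (A : Subgroup (MulAut X)) : Prop where
  two : IsPGroup 2 X
  rk : ∀ M : Subgroup X, M.Normal → Ab M → ∀ E : Subgroup X, E ≤ M → (∀ e ∈ E, e ^ 2 = 1) → Nat.card E ≤ 4
  odd : Odd (Nat.card A)
  gen : Subgroup.closure {g : X | ∃ φ ∈ A, ∃ x : X, g = x⁻¹ * φ x} = ⊤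

/-- every `A`-invariant normal abelian subgroup of `X` is central -/
def AllCentral (A : Subgroup (MulAut X)) : Prop :=
  ∀ N : Subgroup X, N.Normal → Inv A N → Ab N → N ≤ Subgroup.center X

/-- `X ≅ Q₈` -/
def ConclA (X : Type*) [Group X] : Prop := Nonempty (X ≃* QuaternionGroup 2)

/-- special of order 64 with exactly three involutions, all central -/
def ConclB (X : Type*) [Group X] : Prop :=
  Cfsg.IsSpecial 2 X ∧ Nat.card X = 64 ∧ Nat.card {x : X // orderOf x = 2} = 3 ∧
    ∀ x : X, orderOf x = 2 → x ∈ Subgroup.center X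

/-- extraspecial of order 32 with exactly eleven involutions -/
def ConclC (X : Type*) [Group X] : Prop :=
  Cfsg.IsExtraspecial 2 X ∧ Nat.card X = 32 ∧ Nat.card {x : X // orderOf x = 2} = 11

/-- the subgroup `Ω₁(Z(G)) = {g ∈ Z(G) | g² = 1}` -/
def Om1Z (G : Type*) [Group G] : Subgroup G where
  carrier := {g | g ∈ Subgroup.center G ∧ g ^ 2 = 1}
  one_mem' := ⟨Subgroup.one_mem _, one_pow 2⟩
  mul_mem' := by
    rintro a b ⟨ha, ha2⟩ ⟨hb, hb2⟩
    refine ⟨Subgroup.mul_mem _ ha hb, ?_⟩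
    have hc : Commute a b := (Subgroup.mem_center_iff.mp ha b).symm
    rw [hc.mul_pow, ha2, hb2, one_mul]
  inv_mem' := by
    rintro a ⟨ha, ha2⟩
    exact ⟨Subgroup.inv_mem _ ha, by rw [inv_pow, ha2, inv_one]⟩

theorem mem_Om1Z {G : Type*} [Group G] {g : G} : g ∈ Om1Z G ↔ g ∈ Subgroup.center G ∧ g ^ 2 = 1 := Iff.rfl

end Cfsg.Agent.Lib.Helper12.SC3
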