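import Cfsg.Agent.Lib.Helper12.SC3.Defs
import Cfsg.Agent.Lib.Helper28.SC3G
import Cfsg.Agent.Lib.Helper8.SC3G3

/-!
# S1904 farm — shared general lemmas (Blueprint G2, G3, G4).  Three independent leaves.
Only replace the `sorry`s; statements verbatim; aux lemmas with fresh names in sub-namespace `G`.
Any PART may `import Cfsg.Agent.Lib.Helper12.SC3.G`.
-/

set_option autoImplicit false

namespace Cfsg.Agent.Lib.Helper12.SC3

variable {X : Type*} [Group X]

/-- (G2) a normal subgroup fixed pointwise by `A` is central (`[X,A] = X`).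
For `n ∈ N`, `x : X`, `φ ∈ A`: `x⁻¹ n x ∈ N` is `φ`-fixed, so `x⁻¹ n x = φ(x)⁻¹ n φ(x)`; hence `n` commutes with `x * φ(x)⁻¹`; apply this to `x⁻¹`... the
centralizer of `N` contains every generator `x⁻¹ * φ x`, hence is `⊤`. -/
theorem central_of_fixed {A : Subgroup (MulAut X)}
    (hgen : Subgroup.closure {g : X | ∃ φ ∈ A, ∃ x : X, g = x⁻¹ * φ x} = ⊤)
    (N : Subgroup X) (hN : N.Normal) (hfix : ∀ φ ∈ A, ∀ v ∈ N, φ v = v) : N ≤ Subgroup.center X := by
  exact Cfsg.Agent.Lib.Helper28.SC3G.central_of_fixed A hgen N hN hfix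

/-- (G3) if `X/K` is abelian (`K` normal, `A`-invariant) then an element fixed by `A` modulo `K` lies in `K`.
Norm map on the abelian 2-group `X/K`: `ν(q) = ∏_{a ∈ A} a • q` kills each `q⁻¹ (a • q)`, hence all of `X/K`, while `ν(q) = q ^ |A|` for a fixed `q`; `|A|` odd. -/
theorem mem_of_fixed_mod [Finite X] {A : Subgroup (MulAut X)} (h : Hyp A) (K : Subgroup X) (hK : K.Normal)
    (hinv : Inv A K) (hab : ∀ x y : X, x * y * x⁻¹ * y⁻¹ ∈ K) (x : X) (hx : ∀ φ ∈ A, x⁻¹ * φ x ∈ K) : x ∈ K := by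
  haveI := hK
  exact Cfsg.Agent.Lib.Helper8.SC3G3.Hyp_fixedMod_mem h K hab x hx

/-- (G4) an odd-order automorphism leaving an abelian 2-subgroup `B` invariant and fixing its involutions fixes `B` pointwise.
Induction on the order of `v`: `t = v⁻¹ φ(v)` has `t² = 1` (φ fixes `v²`), so `φ t = t`, `φ^j v = v t^j`, `j = orderOf φ` odd gives `t = 1`. -/
theorem fix_of_fix_involutions [Finite X] (hX : IsPGroup 2 X) (B : Subgroup X) (hB : Ab B) (φ : MulAut X)
    (hφ : Odd (orderOf φ)) (hinv : ∀ v ∈ B, φ v ∈ B) (hfix : ∀ v ∈ B, v ^ 2 = 1 → φ v = v) :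
    ∀ v ∈ B, φ v = v := by
  exact Cfsg.Agent.Lib.Helper28.SC3G.fix_of_fix_omega hX B hB φ hφ hinv hfix

end Cfsg.Agent.Lib.Helper12.SC3
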