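import Mathlib

/-!
# S1904 farm (architect helper12): BLUEPRINT (comment-only file; nothing to prove here)

Notation.  `X` finite 2-group, `A ≤ Aut X` of odd order, `[X,A] = X` (`Hyp.gen`), `Z = Z(X)`, `R = Ω₁(Z)` (`Om1Z X`),
`[x,y] = x*y*x⁻¹*y⁻¹`.  (H1) = `Hyp.rk`: an exponent-2 subgroup of a normal abelian subgroup of `X` has order ≤ 4.
"A-inv" = `Inv A N`.  `AllCentral A` = every A-inv normal abelian subgroup is central.

## General facts
(G1) [`Hyp.rk` from `hscn`, file P0]  A maximal normal abelian subgroup `M'` of a p-group is self-centralizing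
     (`C_X(M') = M'`; else pick `yM'` of order p in `C_X(M')/M' ∩ Z(X/M')`, then `⟨y⟩M'` is normal abelian, bigger).  If a normal abelian `M`
     had an exponent-2 subgroup `E` of order > 4, then `|E| ≥ 8`, `E` has a subgroup `E'` of order 8 (elementary abelian), `M ≤ M'` maximal normal abelian,
     and `(M', E')` contradicts `hscn`.
(G2) If `N ⊴ X` is A-inv and every `φ ∈ A` fixes `N` pointwise then `N ≤ Z`:  for `n ∈ N`, `x ∈ X`, `φ ∈ A`: `x⁻¹ n x ∈ N` is fixed by `φ`, so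
     `x⁻¹ n x = φ(x)⁻¹ n φ(x)`, i.e. `n` commutes with `x φ(x)⁻¹`, hence (inverse) with ... all generators `x⁻¹ φ(x)` (apply to `x⁻¹`), so with `X`.
(G3) If `K ⊴ X` is A-inv with `X/K` abelian, then every `x` fixed by all of `A` lies in `K`.  (Abelian 2-group `Q = X/K`, `|A|` odd: the norm map
     `q ↦ ∏_{a ∈ A} a(q)` kills every `q⁻¹ a(q)`, hence all of `Q` (generated by them), and is `q ↦ q^{|A|}` on fixed points; `|A|` odd ⇒ `q = 1`.)
     In particular a subgroup of `Z` fixed pointwise by `A` lies in `X' = commutator X`.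
(G4) An odd-order automorphism of an abelian 2-group `B` that fixes `Ω₁(B)` pointwise is trivial on `B`.  A cyclic 2-group, or `Z_{2^a} × Z_2` (a ≥ 2),
     or more generally an abelian 2-group of rank ≤ 2 which is not homocyclic, has no nontrivial odd-order automorphism.
(G5) [structure of noncentral A-inv normal abelian `N`]  `|Ω₁(N)| = 4` (by (H1) and (G4)+(G2)), `A` is transitive on the three involutions of `Ω₁(N)`
     (so the only A-inv subgroups of `Ω₁(N)` are `1` and `Ω₁(N)`), `Ω₁(N) ≤ Z` (because `N ∩ Z ≠ 1` is A-inv), hence `Ω₁(N) = R`;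
     `N` is homocyclic `≅ Z_{2^n} × Z_{2^n}`, `n ≥ 2` (if `n = 1` then `N = R ≤ Z`).
(G6) [INJ]  `V₁, V₂` groups of order 4, exponent 2, on which some `a ∈ A` acts with no nontrivial fixed point, `φ : V₁ → V₂` a homomorphism with
     `φ + aφa⁻¹ + a²φa⁻² = 0`; if `φ(v) = 0` for some `v ≠ 0` then `φ = 0`.

## Case 1: `AllCentral A`  (files PC1, PC1a, PC1b, PE)
(1.1) [PC1]  Let `W = {w | w² ∈ Z ∧ ∀ x, [w,x] ∈ Z}` (a characteristic subgroup; `W/Z = Ω₁(Z(X/Z))`).  For `w ∈ W`: `[w,x]² = [w²,x] = 1`, so `[w,x] ∈ R`,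
      `x ↦ [w,x]` and `w ↦ [w,x]` are homomorphisms.  `Z(W)` is a characteristic abelian subgroup, so A-inv normal abelian, so `Z(W) = Z`.
      `D = C_X(W) ⊴ X`.  If `D ≠ Z`: a nontrivial normal subgroup `D/Z` of the 2-group `X/Z` meets `Z(X/Z)`: get `d ∈ D ∖ Z` with `[d,x] ∈ Z` for all `x`;
      replace `d` by its last power outside `Z`: then `d² ∈ Z`, so `d ∈ W ∩ D = Z(W) = Z`, contradiction.  So `C_X(W) = Z`.
      For all `x, y`: `x²` and `[x,y]` centralize `W` (`[w,x²] = [w,x]² = 1`; `w^{xy} = w^{yx}` as `w^x = w·(central)`), hence lie in `Z`.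
      Consequences used later: `X/Z` elementary abelian, `X' ≤ R` (`[x,y]² = [x²,y] = 1`), `(xy)² = x² y² [y,x]`.
(1.2) [PC1a]  `Z` cyclic, `X` nonabelian.  `A` fixes `Z` pointwise (G4), so `Z ≤ X'` (G3); `X' ≤ R` has order ≤ 2 (R = Ω₁ of cyclic).  So `Z = X' = R`, `|Z| = 2`;
      `X/Z` elementary abelian ⇒ `Φ(X) ≤ Z`; `X' ≤ Φ(X)` (nilpotent).  Hence extraspecial.
(1.3) [PE]  `X` extraspecial, `Z = ⟨z⟩`.  `x² ∈ Z`, `[x,y] ∈ Z`, `(xy)² = x²y²[y,x]`; every subgroup containing `Z` is normal.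
      (a) [three elements] if `y₁,y₂,y₃` are independent mod a subgroup `F ⊇ Z` (8 cosets) and pairwise ... then some product `y ∉ F` of them has `y² = 1`:
          if all seven products had square `z`, then `[yᵢ,yⱼ] = z` for `i ≠ j` and `(y₁y₂y₃)² = 1`.
      (b) `|X| ≥ 128` impossible: get a noncentral involution `u` from (a) (`F = Z`); `|C_X(u)| = |X|/2`, `F = ⟨u,Z⟩` of order 4, `|C_X(u)/F| ≥ 16`,
          (a) inside `C_X(u)` gives an involution `w ∈ C_X(u) ∖ F`; `⟨Z,u,w⟩` is a normal elementary abelian subgroup of order 8, against (H1).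
      (c) `|X| = 8`: `|X : X'| = 4`; `A` acts without fixed points on `X/Φ(X)` (G3); `Cfsg.Agent.Lib.Helper12.QuatFpf.quaternion_of_fpf` gives `X ≅ Q₈`
          (need one `α ∈ A` moving every nontrivial coset: `X/Z` has 3 nonidentity elements, `A` acts on them with no fixed point, so transitively, take `α` of order 3 on it).
      (d) `|X| = 32`: there is a noncentral involution `u` (take `x ∉ Z`, `y ∈ C_X(x) ∖ ⟨x,Z⟩` (orders 16 vs ≤ 8); one of `x, y, xy` is an involution, if `x² = y² = z` then `(xy)² = 1`).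
          In `C_X(u)` (order 16) the elements with square 1 are exactly `F = ⟨u,Z⟩` (4 elements) by (H1) as in (b).  On `X ∖ C_X(u)` (16 elements) the map `x ↦ xu` is a
          fixed-point-free involution with `(xu)² = x² z`, so exactly 8 of them have square 1.  Total 12 elements with `x² = 1`, i.e. 11 involutions.
(1.4) [PC1b]  `Z` noncyclic, `X` nonabelian.  `|R| = 4` ((H1) for `M = Z`).  By (1.1) `X' ≤ R`.
      (i) every involution `u` lies in `R`: `⟨R,u⟩` is normal (contains `X'`... note `[u,x] ∈ X' ≤ R`), elementary abelian, so of order ≤ 4.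
      (ii) `Z = R`.  If `A` fixes `Z` pointwise: `Z ≤ X' ≤ R`.  Otherwise `A` is transitive on `R ∖ 1` ((G4): nontrivial on `R`); suppose some `z₀ ∈ Z` has order 4:
           the squares of `Z` meet `R` in a nontrivial A-inv subgroup, so `R ≤ Z² := {z² | z ∈ Z}`.  If `x ∉ Z` and `x² ∈ Z²`, say `x² = z₁²`, then `(x z₁⁻¹)² = 1`, `x z₁⁻¹ ∈ R ≤ Z`: contradiction.
           So `x ↦ x² Z²` is an injective homomorphism `X/Z → Z/Z²` (`[y,x] ∈ R ≤ Z²`), `|Z/Z²| ≤ 4`, so `X = ⟨x,y⟩Z`, `X' = ⟨[x,y]⟩` has order 2 and is A-inv inside `R`: contradiction.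
      (iii) now `Z = R = Ω₁(X)` has order 4, `x² ∈ R ∖ 1` for `x ∉ Z`.  `|X/Z| ≤ 16`: otherwise pick `x₁..x₅` independent mod `Z`; for `ε ∈ F₂⁵`,
           `(∏ xᵢ^{εᵢ})² = ∏ (xᵢ²)^{εᵢ} ∏_{i<j} [xⱼ,xᵢ]^{εᵢεⱼ}`; in coordinates of `R ≅ F₂²` these are two polynomials of degree ≤ 2 in 5 variables over `ZMod 2`;
           Chevalley-Warning (`char_dvd_card_solutions_of_add_lt`) gives a nonzero common zero `ε`, i.e. an involution outside `Z`.
      (iv) `A` has no fixed point on `X/Z ∖ 1` (G3).  `|X/Z| = 4`: `X' = ⟨[x,y]⟩` of order 2 is fixed by `A`, so `A` is not transitive on `R∖1`, so `A` fixes `R = Z` pointwise, so `Z ≤ X'`: no.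
           `|X/Z| = 8`: `A` is transitive on the 7 nonidentity cosets, so has an element `a` of order 7; `a` fixes `R` pointwise (`|Aut R| = 6`) and `⟨a⟩` is transitive on them; so
           `x² = r` is the same for all `x ∉ Z`; then `[x,y] = r` for `x,y` independent mod `Z`, and for independent `x,y,t`: `[x,yt] = [x,y][x,t] = 1 ≠ r`: contradiction.
           `|X/Z| = 16`: `|X| = 64`; `|X'| = 4` (if 2: as for `|X/Z| = 4`); so `X' = Z = R`, `Φ(X) = Z`; three involutions, all central: `ConclB`.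
           (`|X/Z| = 2` or `1`: `X` abelian.)

## Case 2: some noncentral A-inv normal abelian subgroup exists  (file PC2 and `PC2/*`)
Take `N` maximal among noncentral A-inv normal abelian subgroups.  By (G5): `R = Ω₁(N)`, `|R| = 4`, `A` transitive on `R∖1`, `R ≤ Z`, `N ≅ Z_{2^n}²`, `n ≥ 2`.  Write `N_k = {v^{2^k} | v ∈ N}`.
(2.1) `C_X(N) = N`.  Else let `Y/N` be a minimal A-inv normal subgroup of `X/N` inside `C_X(N)/N`: it is central in `X/N`, elementary abelian, A-irreducible.  `|Y/N| = 2` would make `Y` abelian (maximality).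
      So `Z(Y) = N` (irreducible), `Y' ≤ R` (`[y,y']² = [y²,y'] = 1`), `Y'` A-inv nontrivial so `Y' = R`.  `q : Y/N → N/N₁`, `y ↦ y²N₁` is an A-equivariant homomorphism (`R ≤ N₁`).
      `q = 0`: `y² = m²`, `u = y m⁻¹ ∉ N` is an involution centralizing `N`, `⟨u⟩N` is normal abelian with `Ω₁ ⊇ ⟨u⟩ × R`: against (H1).  `q ≠ 0`: `q` injective, `|Y/N| ≤ 4`, `Y = ⟨y,y'⟩N`, `Y' = ⟨[y,y']⟩` cyclic ≠ R.
(2.2) `[N,X] ≤ N₁`: `[N,X]N₁/N₁` is a proper (2-group acting on 2-group) A-inv subgroup of `N/N₁` (order 4, A-irreducible since `N/N₁ ≅ R` via `v ↦ v^{2^{n-1}}`).  Hence `[N_k,X] ≤ N_{k+1}`.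
(2.3) For `x ∈ X` put `E_x(v) = v⁻¹ x⁻¹ v x ∈ N₁`; `E_x : N → N₁` is a homomorphism; `x ↦ (E_x mod N₂) ∈ Hom(N/N₁, N₁/N₂) =: H₄` is a homomorphism, A-equivariant, with kernel ⊇ N.
      `H₄` is elementary abelian of order 16 with `C_{H₄}(A) ∩ [H₄,A] = 0`, the image `U` of `X` satisfies `U = [U,A] ≤ [H₄,A]`; the squaring map `s : N/N₁ → N₁/N₂` lies in `C_{H₄}(A)`, `s ≠ 0`.
      Every nonzero element of `[H₄,A]` is injective (G6).
(2.4) `n = 2`: `N₁ = R`, `N₂ = 1`, `X/N ↪ [H₄,A]` of order ≤ 4, `X ≠ N`, so `|X/N| = 4`, `|X| = 64`; `C_N(x) = R` for `x ∉ N` (G6); `x² ∈ C_N(x) = R`; so all squares lie in `R`, `X/R` is elementary abelian,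
      `X' = Φ(X) = R` (`[N,x] = R`), `Z = R` (`Z ≤ C_X(N) = N`); an involution `u ∉ R` would give the normal elementary abelian `⟨R,u⟩` of order 8.  `ConclB`.
(2.5) `n ≥ 3` is impossible.  `X̂ = X/N ≠ 1`; pick `x ∉ N` with `xN` of order 2 in `Z(X/N)`, moreover either fixed by `A` mod `N` or inside an A-irreducible subgroup of `Ω₁(Z(X/N))` of order 4.
      `E = E_x`, `x²∈N`: `E(E(v)) = E(v)⁻²`.  Let `k ≥ 1` be maximal with `E(N) ≤ N_k`.  If `2 ≤ k ≤ n-2`: `E(v)² ∈ E(N_k) ≤ N_{2k} ≤ N_{k+2}` so `E(v) ∈ N_{k+1}`: no.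
      `k = 1`: the class of `E` in `H₄` is nonzero and in `[H₄,A]`; if `xN` is A-fixed it is also in `C_{H₄}(A)`: no; otherwise it is injective, hence bijective, and `E(E(v)) = E(v)⁻²` gives `E ≡ s mod N₂`: no.
      So `k = n-1`: `E(N) ≤ R`, `E` induces `N/N₁ → R` nonzero, injective (Schur if A-fixed, (G6) otherwise), so `C_N(x) = ker E = N₁`.
      `ψ(v) = v^x v = v² E(v)`: homomorphism `N → N₁`, `ker ψ = R` (`v² ∈ R ⇒ v ∈ N₁ (n ≥ 3) ⇒ E(v) = 1`), so `ψ(N) = N₁ ∋ x⁻²`: there is `v` with `(xv)² = x² ψ(v) = 1`.  `u = xv` is an involution, `u ∉ N`, `u` centralizes `R`.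
      For `g ∈ X`: `u^g ∈ uN` (as `xN` is central in `X/N`) is an involution `u v'` with `ψ(v') = 1`, so `v' ∈ R`.  Hence `⟨R,u⟩` is a normal elementary abelian subgroup of order 8: against (H1).
-/
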