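import Cfsg.Agent.Lib.Helper12.SC3.PC1
import Cfsg.Agent.Lib.Helper17.Frattini
import Cfsg.Agent.Lib.Helper1.Frattini

/-!
# S1904 farm — PART PC1a: cyclic centre ⇒ extraspecial.  Blueprint (1.2), using `class_two` (PC1) as a black box and (G3), (G4).
Only replace the `sorry`; statement verbatim; aux lemmas with fresh names in sub-namespace `PC1a`.
-/

set_option autoImplicit false

namespace Cfsg.Agent.Lib.Helper12.SC3

variable {X : Type*} [Group X]

open scoped commutatorElement

namespace PC1a

/-- (G3) for `K = X'`: an element fixed by all of `A` lies in the commutator subgroup (norm map on the abelianization) -/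
theorem fixed_mem_commutator [Finite X] {A : Subgroup (MulAut X)} (h : Hyp A) {z : X}
    (hz : ∀ φ ∈ A, φ z = z) : z ∈ commutator X := by
  classical
  have : Fintype A := Fintype.ofFinite A
  -- the norm map
  let m : A → (Abelianization X →* Abelianization X) := fun a => Abelianization.map ((a : MulAut X) : X ≃* X).toMonoidHom
  let N : Abelianization X →* Abelianization X := ∏ a : A, m a
  have hN : ∀ x : X, N (Abelianization.of x) = ∏ a : A, Abelianization.of ((a : MulAut X) x) := by
    intro x
    show (∏ a : A, m a) (Abelianization.of x) = _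
    rw [MonoidHom.finsetProd_apply]
    rfl
  have hre : ∀ φ ∈ A, ∀ x : X, N (Abelianization.of (φ x)) = N (Abelianization.of x) := by
    intro φ hφ x
    rw [hN, hN]
    exact Fintype.prod_equiv (Equiv.mulRight (⟨φ, hφ⟩ : A)) _ _ (fun a => rfl)
  have hker : ∀ x : X, N (Abelianization.of x) = 1 := by
    have hle : Subgroup.closure {g : X | ∃ φ ∈ A, ∃ x : X, g = x⁻¹ * φ x} ≤
        (N.comp Abelianization.of).ker := by
      rw [Subgroup.closure_le]
      rintro g ⟨φ, hφ, x, rfl⟩
      show N (Abelianization.of (x⁻¹ * φ x)) = 1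
      rw [map_mul, map_mul, hre φ hφ x, map_inv, map_inv, inv_mul_cancel]
    intro x
    have hx : x ∈ (N.comp Abelianization.of).ker := hle (by rw [h.gen]; trivial)
    exact hx
  have hpow : (Abelianization.of z) ^ (Nat.card A) = 1 := by
    have h1 := hker z
    rw [hN] at h1
    have h2 : ∀ a : A, Abelianization.of ((a : MulAut X) z) = Abelianization.of z := fun a => by
      rw [hz a.1 a.2]
    rw [Finset.prod_congr rfl (fun a _ => h2 a), Finset.prod_const, Finset.card_univ,
      ← Nat.card_eq_fintype_card] at h1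
    exact h1
  obtain ⟨k, hk⟩ := h.two z
  have hpow2 : (Abelianization.of z) ^ (2 ^ k) = 1 := by
    rw [← map_pow, hk, map_one]
  have hd1 : orderOf (Abelianization.of z) ∣ Nat.card A := orderOf_dvd_of_pow_eq_one hpow
  have hd2 : orderOf (Abelianization.of z) ∣ 2 ^ k := orderOf_dvd_of_pow_eq_one hpow2
  have hcop : Nat.Coprime (Nat.card A) (2 ^ k) := by
    apply Nat.Coprime.pow_right
    exact h.odd.coprime_two_right
  have hone : orderOf (Abelianization.of z) = 1 :=
    Nat.eq_one_of_dvd_coprimes hcop hd1 hd2
  have hz1 : Abelianization.of z = 1 := orderOf_eq_one_iff.mp hone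
  have : z ∈ (Abelianization.of : X →* Abelianization X).ker := hz1
  rwa [Abelianization.ker_of] at this

/-- automorphisms preserve the centre -/
theorem apply_mem_center (φ : MulAut X) {z : X} (hz : z ∈ Subgroup.center X) :
    φ z ∈ Subgroup.center X := by
  rw [Subgroup.mem_center_iff]
  intro g
  have hg : g = φ (φ⁻¹ g) := by simp
  rw [hg, ← map_mul, ← map_mul, Subgroup.mem_center_iff.mp hz]

/-- restriction of automorphisms to the centre -/
def restrCenter (X : Type*) [Group X] : MulAut X →* MulAut (Subgroup.center X) where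
  toFun φ :=
    { toFun := fun z => ⟨φ z, apply_mem_center φ z.2⟩
      invFun := fun z => ⟨φ⁻¹ z, apply_mem_center φ⁻¹ z.2⟩
      left_inv := fun z => Subtype.ext (by simp)
      right_inv := fun z => Subtype.ext (by simp)
      map_mul' := fun a b => Subtype.ext (by simp) }
  map_one' := by ext; rfl
  map_mul' := fun a b => by ext; rfl

theorem totient_two_pow_dvd (k : ℕ) : Nat.totient (2 ^ k) ∣ 2 ^ k := by
  cases k with
  | zero => simp
  | succ n =>
    rw [Nat.totient_prime_pow_succ Nat.prime_two]
    exact ⟨2, by ring⟩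

/-- (G4), cyclic case: odd-order automorphisms fix a cyclic centre pointwise -/
theorem fix_center_of_cyclic [Finite X] {A : Subgroup (MulAut X)} (h : Hyp A)
    (hcyc : IsCyclic (Subgroup.center X)) : ∀ φ ∈ A, ∀ z ∈ Subgroup.center X, φ z = z := by
  intro φ hφ z hz
  have h1 : orderOf (restrCenter X φ) ∣ orderOf φ := orderOf_map_dvd (restrCenter X) φ
  have h2 : orderOf φ ∣ Nat.card A := by
    have : orderOf (⟨φ, hφ⟩ : A) = orderOf φ := Subgroup.orderOf_mk φ hφ
    rw [← this]
    exact orderOf_dvd_natCard _
  have h3 : orderOf (restrCenter X φ) ∣ Nat.card (MulAut (Subgroup.center X)) := orderOf_dvd_natCard _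
  rw [IsCyclic.card_mulAut] at h3
  obtain ⟨k, hk⟩ := (IsPGroup.iff_card (p := 2)).mp (h.two.to_subgroup (Subgroup.center X))
  rw [hk] at h3
  have h4 : orderOf (restrCenter X φ) ∣ 2 ^ k := h3.trans (totient_two_pow_dvd k)
  have hcop : Nat.Coprime (Nat.card A) (2 ^ k) := by
    apply Nat.Coprime.pow_right
    exact h.odd.coprime_two_right
  have hone : orderOf (restrCenter X φ) = 1 := Nat.eq_one_of_dvd_coprimes hcop (h1.trans h2) h4
  have hr : restrCenter X φ = 1 := orderOf_eq_one_iff.mp hone
  have := congrArg (fun ψ : MulAut (Subgroup.center X) => ((ψ ⟨z, hz⟩ : Subgroup.center X) : X)) hr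
  exact this

end PC1a

theorem extraspecial_of_cyclic [Finite X] {A : Subgroup (MulAut X)} (h : Hyp A) (hna : ¬ IsMulCommutative X)
    (hc : AllCentral A) (hcyc : IsCyclic (Subgroup.center X)) : Cfsg.IsExtraspecial 2 X := by
  classical
  have : Fact (Nat.Prime 2) := ⟨Nat.prime_two⟩
  obtain ⟨hsq, hcomm⟩ := class_two h hc
  -- commutators have square one
  have hc2 : ∀ x y : X, (x * y * x⁻¹ * y⁻¹) ^ 2 = 1 := by
    intro x y
    have hcZ : x * y * x⁻¹ * y⁻¹ ∈ Subgroup.center X := hcomm x y
    generalize hcdef : x * y * x⁻¹ * y⁻¹ = c at hcZ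
    have hyc : y * c = c * y := Subgroup.mem_center_iff.mp hcZ y
    have hy2 : ∀ g : X, g * y ^ 2 = y ^ 2 * g := Subgroup.mem_center_iff.mp (hsq y)
    have e1 : x * y * x⁻¹ = c * y := by rw [← hcdef]; group
    have e2 : (x * y * x⁻¹) ^ 2 = y ^ 2 := by
      have : (x * y * x⁻¹) ^ 2 = x * y ^ 2 * x⁻¹ := conj_pow
      rw [this, hy2 x, mul_assoc, mul_inv_cancel, mul_one]
    have e3 : (c * y) ^ 2 = c ^ 2 * y ^ 2 := by
      rw [pow_two, pow_two, pow_two]
      calc c * y * (c * y) = c * (y * c) * y := by group
        _ = c * (c * y) * y := by rw [hyc]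
        _ = c * c * (y * y) := by group
    rw [e1, e3] at e2
    exact mul_right_cancel (e2.trans (one_mul _).symm)
  have hcomm_le : commutator X ≤ Om1Z X := by
    rw [commutator_def, Subgroup.commutator_le]
    intro x _ y _
    rw [commutatorElement_def]
    exact ⟨hcomm x y, hc2 x y⟩
  have hR2 : Nat.card (Om1Z X) ≤ 2 := by
    have : Fintype (Subgroup.center X) := Fintype.ofFinite _
    have h1 := IsCyclic.card_pow_eq_one_le (α := Subgroup.center X) (n := 2) (by norm_num)
    have h2 : Nat.card (Om1Z X) ≤ Nat.card {a : Subgroup.center X // a ^ 2 = 1} := by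
      apply Nat.card_le_card_of_injective (fun g : Om1Z X =>
        (⟨⟨g.1, g.2.1⟩, Subtype.ext g.2.2⟩ : {a : Subgroup.center X // a ^ 2 = 1}))
      intro g g' hgg
      apply Subtype.ext
      have := congrArg (fun a : {a : Subgroup.center X // a ^ 2 = 1} =>
        ((a : Subgroup.center X) : X)) hgg
      exact this
    have h3 : Nat.card {a : Subgroup.center X // a ^ 2 = 1} =
        (Finset.univ.filter (fun a : Subgroup.center X => a ^ 2 = 1)).card := by
      rw [Nat.card_eq_fintype_card, Fintype.card_subtype]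
    rw [h3] at h2
    exact h2.trans h1
  have hne : commutator X ≠ ⊥ := by
    intro hbot
    apply hna
    refine ⟨⟨fun a b => ?_⟩⟩
    have hm : ⁅a, b⁆ ∈ commutator X := by
      rw [commutator_def]
      exact Subgroup.commutator_mem_commutator (Subgroup.mem_top a) (Subgroup.mem_top b)
    rw [hbot, Subgroup.mem_bot] at hm
    exact commutatorElement_eq_one_iff_mul_comm.mp hm
  have hOmZ : Om1Z X ≤ Subgroup.center X := fun g hg => hg.1
  have hZ_le : Subgroup.center X ≤ commutator X := fun z hz =>
    PC1a.fixed_mem_commutator h (fun φ hφ => PC1a.fix_center_of_cyclic h hcyc φ hφ z hz)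
  have hZeq : commutator X = Subgroup.center X := le_antisymm (hcomm_le.trans hOmZ) hZ_le
  have hcardZ : Nat.card (Subgroup.center X) = 2 := by
    have h1 : Nat.card (Subgroup.center X) ≤ 2 := by
      rw [← hZeq]
      exact (Subgroup.card_le_of_le hcomm_le).trans hR2
    have h2 : 1 < Nat.card (Subgroup.center X) := by
      rw [← hZeq]
      exact (Subgroup.one_lt_card_iff_ne_bot _).mpr hne
    omega
  have hfrat : frattini X = Subgroup.center X := by
    apply le_antisymm
    · exact Cfsg.Agent.Lib.Helper17.frattini_le_of_pow_comm (p := 2) (Subgroup.center X) hsq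
        (fun x y => by rw [commutatorElement_def]; exact hcomm x y)
    · rw [← hZeq]
      exact Cfsg.Agent.Lib.Helper1.IsPGroup.commutator_le_frattini h.two
  exact ⟨⟨h.two, hfrat, hZeq⟩, hcardZ⟩

end Cfsg.Agent.Lib.Helper12.SC3
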