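import Cfsg.Agent.Lib.Helper12.SC3.PC1
import Cfsg.Agent.Lib.Helper11.SC3B.Main

/-!
# S1904 farm — PART PC1b: all-central case with noncyclic centre.  Blueprint (1.4), using `class_two` (PC1) as a black box.
Only replace the `sorry`; statement verbatim; aux lemmas with fresh names in sub-namespace `PC1b` (or own files `SC3/PC1b/*.lean` if you farm it).
-/

set_option autoImplicit false

namespace Cfsg.Agent.Lib.Helper12.SC3

variable {X : Type*} [Group X]

theorem noncyclic_center [Finite X] {A : Subgroup (MulAut X)} (h : Hyp A) (hna : ¬ IsMulCommutative X)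
    (hc : AllCentral A) (hncyc : ¬ IsCyclic (Subgroup.center X)) : ConclB X := by
  exact Cfsg.Agent.Lib.Helper11.SC3B.noncyclic_center_main h hna hc hncyc

end Cfsg.Agent.Lib.Helper12.SC3
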