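import Cfsg.Agent.Lib.Helper12.SC3.PC2.Main2

/-!
# S1904 farm — PART PC2: some `A`-invariant normal abelian subgroup is not central.  Blueprint, Case 2.
Proof = sub-farm `SC3/PC2/*.lean` (architect helper12), assembled in `SC3/PC2/Main2.lean`.
-/

set_option autoImplicit false

namespace Cfsg.Agent.Lib.Helper12.SC3

variable {X : Type*} [Group X]

theorem noncentral_case [Finite X] {A : Subgroup (MulAut X)} (h : Hyp A) (hc : ¬ AllCentral A) : ConclB X :=
  PC2.noncentral_case' h hc

end Cfsg.Agent.Lib.Helper12.SC3
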