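import Cfsg.Agent.Lib.Helper12.SC3.Defs
import Cfsg.Agent.Lib.Helper12.QuatFpf
import Cfsg.Agent.Lib.Helper1.ExtraspecialRank
import Cfsg.Agent.Lib.Helper27.OrderPCube

/-!
# S1904 farm — PART PE: the extraspecial case.  Blueprint (1.3).  `quaternion_of_fpf` (Lib/Helper12/QuatFpf.lean) recognises `Q₈`.
Only replace the `sorry`; statement verbatim; aux lemmas with fresh names in sub-namespace `PE` (or own files `SC3/PE/*.lean` if you farm it).

Filled by helper19 (route: helper1's `rank_dichotomy` for extraspecial 2-groups + helper27's `extraspecial_cube_two`):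
* an elementary abelian subgroup `B` gives the normal abelian subgroup `B ⊔ Z(X)`, so `Hyp.rk` bounds the 2-rank of `X` by 2;
* `rank_dichotomy`: `|X| = 2^(2n+1)`, plus type has rank `n+1`, minus type has rank `n` and `2^(2n) - 2^n` solutions of `x² = 1`;
  hence `n = 1`, or `n = 2` of minus type (12 solutions, 11 involutions);
* `n = 1`: `Q₈` or a characteristic chain; a characteristic subgroup of index 2 contradicts `[X, A] = X`.
-/

set_option autoImplicit false

open scoped commutatorElement

namespace Cfsg.Agent.Lib.Helper12.SC3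

variable {X : Type*} [Group X]

namespace PE

/-- the 2-rank of an extraspecial `X` satisfying `Hyp` is at most 2 -/
theorem pRankLE_two [Finite X] {A : Subgroup (MulAut X)} (h : Hyp A) (he : Cfsg.IsExtraspecial 2 X) :
    Cfsg.PRankLE 2 2 X := by
  intro B hB hB2
  have hcomm : commutator X = Subgroup.center X := he.1.2.2
  have hMn : (B ⊔ Subgroup.center X).Normal := by
    constructor
    intro m hm g
    have e : g * m * g⁻¹ = ⁅g, m⁆ * m := by
      rw [commutatorElement_def]; group
    rw [e]
    refine Subgroup.mul_mem _ (le_sup_right (a := B) ?_) hm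
    rw [← hcomm, commutator_def]
    exact Subgroup.commutator_mem_commutator (Subgroup.mem_top g) (Subgroup.mem_top m)
  have hMab : Ab (B ⊔ Subgroup.center X) := by
    intro a ha b hb
    rw [← SetLike.mem_coe, Subgroup.mul_normal] at ha hb
    obtain ⟨b1, hb1, z1, hz1, rfl⟩ := ha
    obtain ⟨b2, hb2, z2, hz2, rfl⟩ := hb
    have hz1' : ∀ g : X, g * z1 = z1 * g := fun g => Subgroup.mem_center_iff.mp hz1 g
    have hz2' : ∀ g : X, g * z2 = z2 * g := fun g => Subgroup.mem_center_iff.mp hz2 g
    have hbb : b1 * b2 = b2 * b1 :=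
      congrArg Subtype.val (isMulCommutative_iff.mp hB ⟨b1, hb1⟩ ⟨b2, hb2⟩)
    calc b1 * z1 * (b2 * z2) = b1 * (z1 * b2) * z2 := by group
      _ = b1 * (b2 * z1) * z2 := by rw [hz1' b2]
      _ = (b1 * b2) * (z1 * z2) := by group
      _ = (b2 * b1) * (z2 * z1) := by rw [hbb, hz2' z1]
      _ = b2 * (b1 * z2) * z1 := by group
      _ = b2 * (z2 * b1) * z1 := by rw [hz2' b1]
      _ = b2 * z2 * (b1 * z1) := by group
  have := h.rk _ hMn hMab B le_sup_left hB2
  simpa using this

/-- a subgroup of index 2 invariant under all automorphisms contradicts `[X, A] = X` -/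
theorem no_char_index_two {A : Subgroup (MulAut X)} (h : Hyp A) (C : Subgroup X) (hC : C.index = 2)
    (hinv : ∀ α : X ≃* X, ∀ x ∈ C, α x ∈ C) : False := by
  have hle : Subgroup.closure {g : X | ∃ φ ∈ A, ∃ x : X, g = x⁻¹ * φ x} ≤ C := by
    rw [Subgroup.closure_le]
    rintro g ⟨φ, _, x, rfl⟩
    show x⁻¹ * φ x ∈ C
    by_cases hx : x ∈ C
    · exact C.mul_mem (C.inv_mem hx) (hinv φ x hx)
    · have hφx : φ x ∉ C := by
        intro hc
        have h1 := hinv (MulEquiv.symm φ) (φ x) hc
        rw [MulEquiv.symm_apply_apply] at h1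
        exact hx h1
      rw [Subgroup.mul_mem_iff_of_index_two hC, Subgroup.inv_mem_iff]
      exact ⟨fun h1 => absurd h1 hx, fun h1 => absurd h1 hφx⟩
  rw [h.gen] at hle
  have hCt : C = ⊤ := top_le_iff.mp hle
  rw [hCt, Subgroup.index_top] at hC
  omega

/-- order 8: `Q₈` -/
theorem case_eight [Finite X] {A : Subgroup (MulAut X)} (h : Hyp A) (he : Cfsg.IsExtraspecial 2 X)
    (h8 : Nat.card X = 2 ^ 3) : ConclA X := by
  rcases Cfsg.Agent.Lib.Helper27.extraspecial_cube_two h8 he with hq | ⟨c, _, h3, hinv, hstep⟩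
  · exact hq
  · exfalso
    obtain ⟨_, hcard⟩ := hstep 2 (by norm_num)
    have hcard' : Nat.card (c 3) = 2 * Nat.card (c 2) := hcard
    rw [h3, Subgroup.card_top] at hcard'
    have hidx : (c 2).index = 2 := by
      have := Subgroup.card_mul_index (c 2)
      have hpos : 0 < Nat.card (c 2) := Nat.card_pos
      rw [hcard'] at this
      nlinarith
    exact no_char_index_two h (c 2) hidx (hinv 2)

/-- solutions of `x² = 1` versus involutions -/
theorem card_involutions [Finite X] (k : ℕ) (hk : Nat.card {x : X // x ^ 2 = 1} = k + 1) :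
    Nat.card {x : X // orderOf x = 2} = k := by
  have : Fact (Nat.Prime 2) := ⟨Nat.prime_two⟩
  have hset : {x : X | x ^ 2 = 1} = insert (1 : X) {x : X | orderOf x = 2} := by
    ext x
    simp only [Set.mem_ofPred_eq, Set.mem_insert_iff]
    constructor
    · intro hx
      by_cases hx1 : x = 1
      · exact Or.inl hx1
      · exact Or.inr (orderOf_eq_prime hx hx1)
    · rintro (rfl | hx)
      · exact one_pow 2
      · rw [← hx]; exact pow_orderOf_eq_one x
  have hnot : (1 : X) ∉ {x : X | orderOf x = 2} := by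
    simp
  have h1 : Nat.card {x : X // x ^ 2 = 1} = ({x : X | x ^ 2 = 1}).ncard := Nat.card_coe_set_eq _
  have h2 : Nat.card {x : X // orderOf x = 2} = ({x : X | orderOf x = 2}).ncard :=
    Nat.card_coe_set_eq _
  rw [h2]
  rw [h1, hset, Set.ncard_insert_of_notMem hnot (Set.toFinite _)] at hk
  omega

end PE

theorem extraspecial_cases [Finite X] {A : Subgroup (MulAut X)} (h : Hyp A) (he : Cfsg.IsExtraspecial 2 X) :
    ConclA X ∨ ConclC X := by
  have : Fact (Nat.Prime 2) := ⟨Nat.prime_two⟩
  have hr2 := PE.pRankLE_two h he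
  have hmono : ∀ k, 2 ≤ k → Cfsg.PRankLE 2 k X := fun k hk B hB hB2 =>
    (hr2 B hB hB2).trans (Nat.pow_le_pow_right (by norm_num) hk)
  obtain ⟨n, hn1, hn⟩ := Cfsg.Agent.Lib.Helper1.IsExtraspecial.card_eq he
  rcases Cfsg.Agent.Lib.Helper1.ExtraspecialTwo.rank_dichotomy he n hn with
    ⟨_, _, h3⟩ | ⟨_, h1, _, h3⟩
  · have hn' : n = 1 := by
      by_contra hne
      exact h3 (hmono n (by omega))
    subst hn'
    exact Or.inl (PE.case_eight h he hn)
  · have hn' : n ≤ 2 := by
      by_contra hne
      exact h3 (hmono (n - 1) (by omega))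
    have hn'' : n = 1 ∨ n = 2 := by omega
    rcases hn'' with rfl | rfl
    · exact Or.inl (PE.case_eight h he hn)
    · right
      refine ⟨he, by rw [hn]; norm_num, ?_⟩
      apply PE.card_involutions
      rw [← Cfsg.Agent.Lib.Helper1.ExtraspecialTwo.invCount_top]
      norm_num at h1
      omega

end Cfsg.Agent.Lib.Helper12.SC3
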