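import Cfsg.Agent.Lib.Helper12.SC3.P0
import Cfsg.Agent.Lib.Helper12.SC3.PC1a
import Cfsg.Agent.Lib.Helper12.SC3.PC1b
import Cfsg.Agent.Lib.Helper12.SC3.PC2
import Cfsg.Agent.Lib.Helper12.SC3.PE

/-!
# S1904 farm — assembly
-/

set_option autoImplicit false

namespace Cfsg.Agent.Lib.Helper12.SC3

variable {X : Type*} [Group X]

theorem main [Finite X] (hX : IsPGroup 2 X) (hna : ¬ IsMulCommutative X)
    (hscn : ¬ ∃ A : Subgroup X, A.Normal ∧ Subgroup.centralizer (A : Set X) = A ∧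
      ∃ E : Subgroup X, E ≤ A ∧ Cfsg.IsElementaryAbelian 2 E ∧ Nat.card E = 8)
    (A : Subgroup (MulAut X)) (hA : Odd (Nat.card A))
    (hXA : Subgroup.closure {g : X | ∃ φ ∈ A, ∃ x : X, g = x⁻¹ * φ x} = ⊤) :
    ConclA X ∨ ConclB X ∨ ConclC X := by
  have h : Hyp A := hyp_of_scn hX hscn A hA hXA
  by_cases hc : AllCentral A
  · by_cases hcyc : IsCyclic (Subgroup.center X)
    · rcases extraspecial_cases h (extraspecial_of_cyclic h hna hc hcyc) with ha | hC
      · exact Or.inl ha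
      · exact Or.inr (Or.inr hC)
    · exact Or.inr (Or.inl (noncyclic_center h hna hc hcyc))
  · exact Or.inr (Or.inl (noncentral_case h hc))

end Cfsg.Agent.Lib.Helper12.SC3
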