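import Cfsg.Agent.Lib.Helper12.SC3.Defs
import Cfsg.Agent.Lib.Helper1.Nilpotent
import Cfsg.Agent.Lib.Helper2.PGroupAbelianBound

/-!
# S1904 farm — PART P0: the rank bound from `hscn`.  Blueprint (G1).
Only replace the `sorry`; statement verbatim; aux lemmas with fresh names in sub-namespace `P0`.
-/

set_option autoImplicit false

namespace Cfsg.Agent.Lib.Helper12.SC3

variable {X : Type*} [Group X]

namespace P0

/-- a normal subgroup of order `2 ^ (k + 3)` of a `2`-group contains a normal subgroup of order `8` -/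
theorem exists_normal_card_eight [Finite X] (hX : IsPGroup 2 X) :
    ∀ (k : ℕ) (N : Subgroup X), N.Normal → Nat.card N = 2 ^ (k + 3) →
      ∃ E : Subgroup X, E.Normal ∧ E ≤ N ∧ Nat.card E = 8
  | 0, N, hN, hc => ⟨N, hN, le_rfl, by simpa using hc⟩
  | k + 1, N, hN, hc => by
      have := hN
      have : Fact (Nat.Prime 2) := ⟨Nat.prime_two⟩
      obtain ⟨N₁, hN₁, hle, hc₁⟩ :=
        Cfsg.Agent.Lib.Helper2.exists_normal_le_card_pow hX N (k + 3) (by rw [hc])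
      obtain ⟨E, hE, hEle, hEc⟩ := exists_normal_card_eight hX k N₁ hN₁ hc₁
      exact ⟨E, hE, hEle.trans hle, hEc⟩

/-- the elements of square one of an abelian subgroup -/
def omSub (M : Subgroup X) (hM : Ab M) : Subgroup X where
  carrier := {m | m ∈ M ∧ m ^ 2 = 1}
  one_mem' := ⟨M.one_mem, one_pow 2⟩
  mul_mem' := by
    rintro a b ⟨ha, ha2⟩ ⟨hb, hb2⟩
    refine ⟨M.mul_mem ha hb, ?_⟩
    have hc : Commute a b := hM a ha b hb
    rw [hc.mul_pow, ha2, hb2, one_mul]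
  inv_mem' := by
    rintro a ⟨ha, ha2⟩
    exact ⟨M.inv_mem ha, by rw [inv_pow, ha2, inv_one]⟩

theorem mem_omSub {M : Subgroup X} {hM : Ab M} {m : X} : m ∈ omSub M hM ↔ m ∈ M ∧ m ^ 2 = 1 :=
  Iff.rfl

theorem omSub_normal (M : Subgroup X) (hMn : M.Normal) (hM : Ab M) : (omSub M hM).Normal := by
  refine ⟨fun m hm g => ?_⟩
  obtain ⟨hmM, hm2⟩ := hm
  refine ⟨hMn.conj_mem m hmM g, ?_⟩
  rw [conj_pow, hm2, mul_one, mul_inv_cancel]

end P0

theorem hyp_of_scn [Finite X] (hX : IsPGroup 2 X)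
    (hscn : ¬ ∃ A : Subgroup X, A.Normal ∧ Subgroup.centralizer (A : Set X) = A ∧
      ∃ E : Subgroup X, E ≤ A ∧ Cfsg.IsElementaryAbelian 2 E ∧ Nat.card E = 8)
    (A : Subgroup (MulAut X)) (hA : Odd (Nat.card A))
    (hXA : Subgroup.closure {g : X | ∃ φ ∈ A, ∃ x : X, g = x⁻¹ * φ x} = ⊤) : Hyp A := by
  refine ⟨hX, ?_, hA, hXA⟩
  intro M hMn hM E hEM hE2
  by_contra hcard
  rw [not_le] at hcard
  apply hscn
  have : Fact (Nat.Prime 2) := ⟨Nat.prime_two⟩
  -- the subgroup Ω of elements of square one of M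
  have hEle : E ≤ P0.omSub M hM := fun e he => ⟨hEM he, hE2 e he⟩
  have hΩn : (P0.omSub M hM).Normal := P0.omSub_normal M hMn hM
  obtain ⟨j, hj⟩ := (hX.to_subgroup (P0.omSub M hM)).exists_card_eq
  have hle : Nat.card E ≤ Nat.card (P0.omSub M hM) := Subgroup.card_le_of_le hEle
  have hj3 : 3 ≤ j := by
    by_contra hlt
    rw [not_le] at hlt
    have : 2 ^ j ≤ 2 ^ 2 := Nat.pow_le_pow_right (by norm_num) (by omega)
    omega
  obtain ⟨k, rfl⟩ : ∃ k, j = k + 3 := ⟨j - 3, by omega⟩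
  obtain ⟨E', hE'n, hE'le, hE'c⟩ := P0.exists_normal_card_eight hX k _ hΩn hj
  have hE'ab : Ab E' := fun a ha b hb => hM a (hE'le ha).1 b (hE'le hb).1
  -- a maximal normal abelian subgroup containing E'
  obtain ⟨B, hE'B, hBmax⟩ := Finite.exists_le_maximal
    (p := fun B : Subgroup X => B.Normal ∧ Ab B) (a := E') ⟨hE'n, hE'ab⟩
  obtain ⟨⟨hBn, hBab⟩, hBm⟩ := hBmax
  have := hBn
  have hBc : IsMulCommutative B := ⟨⟨fun a b => Subtype.ext (hBab a a.2 b b.2)⟩⟩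
  have : Group.IsNilpotent X := hX.isNilpotent
  have hcent : Subgroup.centralizer (B : Set X) = B := by
    refine Cfsg.Agent.Lib.Helper1.centralizer_eq_of_maximal_abelian_normal B ?_
    intro M' hM'n hM'c hBM'
    have hM'ab : Ab M' := fun a ha b hb =>
      congrArg Subtype.val (hM'c.is_comm.comm (⟨a, ha⟩ : M') ⟨b, hb⟩)
    exact le_antisymm (hBm ⟨hM'n, hM'ab⟩ hBM') hBM'
  refine ⟨B, hBn, hcent, E', hE'B, ⟨?_, ?_⟩, hE'c⟩
  · exact ⟨⟨fun a b => Subtype.ext (hE'ab a a.2 b b.2)⟩⟩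
  · intro a ha
    exact (hE'le ha).2

end Cfsg.Agent.Lib.Helper12.SC3
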