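import Cfsg.Agent.Lib.Helper12.SC3.Defs

/-!
# S1904 farm — PART PC1: in the all-central case `X/Z` is elementary abelian.  Blueprint (1.1) (+ (G2) is NOT needed here).
Only replace the `sorry`; statement verbatim; aux lemmas with fresh names in sub-namespace `PC1`.
-/

set_option autoImplicit false

namespace Cfsg.Agent.Lib.Helper12.SC3

variable {X : Type*} [Group X]

namespace PC1

/-- `W = {w | w² ∈ Z ∧ ∀ x, [w,x] ∈ Z}` -/
def W (X : Type*) [Group X] : Subgroup X where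
  carrier := {w | w ^ 2 ∈ Subgroup.center X ∧ ∀ x : X, w * x * w⁻¹ * x⁻¹ ∈ Subgroup.center X}
  one_mem' := by
    refine ⟨by simp, fun x => ?_⟩
    have : (1 : X) * x * 1⁻¹ * x⁻¹ = 1 := by group
    rw [this]
    exact Subgroup.one_mem _
  mul_mem' := by
    rintro a b ⟨ha2, ha⟩ ⟨hb2, hb⟩
    refine ⟨?_, fun x => ?_⟩
    · have h1 : (a * b) ^ 2 = a ^ 2 * (a⁻¹ * (b * a * b⁻¹ * a⁻¹) * a) * b ^ 2 := by
        rw [pow_two, pow_two, pow_two]; group
      rw [h1]
      refine Subgroup.mul_mem _ (Subgroup.mul_mem _ ha2 ?_) hb2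
      have := (inferInstance : (Subgroup.center X).Normal).conj_mem _ (hb a) a⁻¹
      simpa using this
    · have h1 : (a * b) * x * (a * b)⁻¹ * x⁻¹ = a * (b * x * b⁻¹ * x⁻¹) * a⁻¹ * (a * x * a⁻¹ * x⁻¹) := by
        group
      rw [h1]
      exact Subgroup.mul_mem _ ((inferInstance : (Subgroup.center X).Normal).conj_mem _ (hb x) a) (ha x)
  inv_mem' := by
    rintro a ⟨ha2, ha⟩
    refine ⟨?_, fun x => ?_⟩
    · rw [inv_pow]
      exact Subgroup.inv_mem _ ha2
    · have h1 : a⁻¹ * x * a⁻¹⁻¹ * x⁻¹ = a⁻¹ * (a * x * a⁻¹ * x⁻¹)⁻¹ * a⁻¹⁻¹ := by group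
      rw [h1]
      exact (inferInstance : (Subgroup.center X).Normal).conj_mem _ (Subgroup.inv_mem _ (ha x)) a⁻¹

theorem mem_W {w : X} : w ∈ W X ↔
    w ^ 2 ∈ Subgroup.center X ∧ ∀ x : X, w * x * w⁻¹ * x⁻¹ ∈ Subgroup.center X := Iff.rfl

theorem map_mem_center (φ : X ≃* X) {z : X} (hz : z ∈ Subgroup.center X) : φ z ∈ Subgroup.center X := by
  rw [Subgroup.mem_center_iff] at hz ⊢
  intro g
  have := congrArg φ (hz (φ.symm g))
  simpa using this

theorem map_mem_W (φ : X ≃* X) {w : X} (hw : w ∈ W X) : φ w ∈ W X := by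
  obtain ⟨hw2, hwx⟩ := hw
  refine ⟨?_, fun x => ?_⟩
  · rw [← map_pow]
    exact map_mem_center φ hw2
  · have := map_mem_center φ (hwx (φ.symm x))
    simpa using this

instance W_normal : (W X).Normal where
  conj_mem := by
    intro w hw g
    have := map_mem_W (MulAut.conj g) hw
    simpa using this

/-- `Z(W)` as a subgroup of `X` -/
def ZW (X : Type*) [Group X] : Subgroup X := W X ⊓ Subgroup.centralizer (W X : Set X)

theorem map_mem_centralizer_W (φ : X ≃* X) {d : X} (hd : d ∈ Subgroup.centralizer (W X : Set X)) :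
    φ d ∈ Subgroup.centralizer (W X : Set X) := by
  rw [Subgroup.mem_centralizer_iff] at hd ⊢
  intro w hw
  have hw' : φ.symm w ∈ W X := map_mem_W φ.symm hw
  have := congrArg φ (hd _ hw')
  simpa using this

theorem ZW_le_center {A : Subgroup (MulAut X)} (hc : AllCentral A) : ZW X ≤ Subgroup.center X := by
  apply hc
  · unfold ZW
    infer_instance
  · intro φ _ x hx
    exact ⟨map_mem_W φ hx.1, map_mem_centralizer_W φ hx.2⟩
  · intro a ha b hb
    have := (Subgroup.mem_centralizer_iff.mp hb.2) a ha.1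
    exact this

/-- a normal subgroup of a nilpotent group not inside the centre contains a non-central element of the second centre -/
theorem exists_second_center [Group.IsNilpotent X] (D : Subgroup X) [D.Normal]
    (hD : ¬ D ≤ Subgroup.center X) :
    ∃ d ∈ D, d ∉ Subgroup.center X ∧ ∀ x : X, d * x * d⁻¹ * x⁻¹ ∈ Subgroup.center X := by
  classical
  obtain ⟨n0, hn0⟩ := Group.IsNilpotent.nilpotent X
  have hex : ∃ n : ℕ, ∃ d ∈ D, d ∈ Subgroup.upperCentralSeries X n ∧ d ∉ Subgroup.center X := by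
    obtain ⟨d, hd, hdZ⟩ := SetLike.not_le_iff_exists.mp hD
    exact ⟨n0, d, hd, by rw [hn0]; exact Subgroup.mem_top d, hdZ⟩
  obtain ⟨d, hdD, hdn, hdZ⟩ := Nat.find_spec hex
  have hmin := fun m (hm : m < Nat.find hex) => Nat.find_min hex hm
  generalize Nat.find hex = k at hdn hmin
  rcases k with _ | m
  · exfalso
    rw [Subgroup.upperCentralSeries_zero, Subgroup.mem_bot] at hdn
    exact hdZ (hdn ▸ Subgroup.one_mem _)
  · refine ⟨d, hdD, hdZ, fun x => ?_⟩
    by_contra hcon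
    have h1 : d * x * d⁻¹ * x⁻¹ ∈ Subgroup.upperCentralSeries X m :=
      Subgroup.mem_upperCentralSeries_succ_iff.mp hdn x
    have h2 : d * x * d⁻¹ * x⁻¹ ∈ D := by
      have h3 : d * x * d⁻¹ * x⁻¹ = d * (x * d⁻¹ * x⁻¹) := by group
      rw [h3]
      exact D.mul_mem hdD ((inferInstance : D.Normal).conj_mem _ (D.inv_mem hdD) x)
    exact hmin m (by omega) ⟨_, h2, h1, hcon⟩

/-- the last power of `d` outside the centre -/
theorem exists_last_power (h2 : IsPGroup 2 X) (D : Subgroup X) {d : X} (hdD : d ∈ D)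
    (hdZ : d ∉ Subgroup.center X) (hd : ∀ x : X, d * x * d⁻¹ * x⁻¹ ∈ Subgroup.center X) :
    ∃ d' ∈ D, d' ∉ Subgroup.center X ∧ d' ^ 2 ∈ Subgroup.center X ∧
      ∀ x : X, d' * x * d'⁻¹ * x⁻¹ ∈ Subgroup.center X := by
  classical
  obtain ⟨k, hk⟩ := h2 d
  have hex : ∃ j : ℕ, d ^ 2 ^ j ∈ Subgroup.center X := ⟨k, by rw [hk]; exact Subgroup.one_mem _⟩
  have hspec := Nat.find_spec hex
  have hmin := fun m (hm : m < Nat.find hex) => Nat.find_min hex hm
  generalize Nat.find hex = j at hspec hmin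
  rcases j with _ | j
  · exfalso
    apply hdZ
    simpa using hspec
  · have hd2 : d ∈ Subgroup.upperCentralSeries X 2 := by
      rw [show (2 : ℕ) = 1 + 1 from rfl, Subgroup.mem_upperCentralSeries_succ_iff]
      intro y
      rw [Subgroup.upperCentralSeries_one, commutatorElement_def]
      exact hd y
    have hd2' : d ^ 2 ^ j ∈ Subgroup.upperCentralSeries X 2 := Subgroup.pow_mem _ hd2 _
    rw [show (2 : ℕ) = 1 + 1 from rfl, Subgroup.mem_upperCentralSeries_succ_iff] at hd2'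
    refine ⟨d ^ 2 ^ j, Subgroup.pow_mem _ hdD _, hmin j (by omega), ?_, fun x => ?_⟩
    · rw [← pow_mul, ← pow_succ]
      exact hspec
    · have := hd2' x
      rw [Subgroup.upperCentralSeries_one, commutatorElement_def] at this
      exact this

/-- for `w` in the second centre, `x ↦ [w,x]` is a homomorphism into the centre -/
def commHom {w : X} (hw : ∀ x : X, w * x * w⁻¹ * x⁻¹ ∈ Subgroup.center X) : X →* Subgroup.center X where
  toFun x := ⟨w * x * w⁻¹ * x⁻¹, hw x⟩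
  map_one' := by
    apply Subtype.ext
    show w * 1 * w⁻¹ * 1⁻¹ = 1
    group
  map_mul' := by
    intro x y
    apply Subtype.ext
    show w * (x * y) * w⁻¹ * (x * y)⁻¹ = (w * x * w⁻¹ * x⁻¹) * (w * y * w⁻¹ * y⁻¹)
    have h1 : w * (x * y) * w⁻¹ * (x * y)⁻¹ = (w * x * w⁻¹ * x⁻¹) * (x * (w * y * w⁻¹ * y⁻¹)) * x⁻¹ := by
      group
    rw [h1, Subgroup.mem_center_iff.mp (hw y) x]
    group

theorem commHom_apply {w : X} (hw : ∀ x : X, w * x * w⁻¹ * x⁻¹ ∈ Subgroup.center X) (x : X) :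
    ((commHom hw x : Subgroup.center X) : X) = w * x * w⁻¹ * x⁻¹ := rfl

theorem commute_of_commHom_eq_one {w : X} (hw : ∀ x : X, w * x * w⁻¹ * x⁻¹ ∈ Subgroup.center X) {g : X}
    (hg : commHom hw g = 1) : w * g = g * w := by
  have h1 : w * g * w⁻¹ * g⁻¹ = 1 := by
    rw [← commHom_apply hw g, hg]
    rfl
  exact mul_inv_eq_iff_eq_mul.mp (mul_inv_eq_one.mp h1)

theorem sq_commutator_eq_one {w : X} (hw : w ∈ W X) (x : X) :
    (w * x * w⁻¹ * x⁻¹) * (w * x * w⁻¹ * x⁻¹) = 1 := by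
  obtain ⟨hw2, hwx⟩ := hw
  have hc1 := Subgroup.mem_center_iff.mp (hwx x)
  have hw2' := Subgroup.mem_center_iff.mp hw2
  have e1 : w ^ 2 * x * (w ^ 2)⁻¹ * x⁻¹ = w * (w * x * w⁻¹ * x⁻¹) * w⁻¹ * (w * x * w⁻¹ * x⁻¹) := by
    rw [pow_two]; group
  have e2 : w ^ 2 * x * (w ^ 2)⁻¹ * x⁻¹ = 1 := by
    rw [← hw2' x]; group
  have e3 : w * (w * x * w⁻¹ * x⁻¹) * w⁻¹ = w * x * w⁻¹ * x⁻¹ := by
    rw [hc1 w]; group
  rw [e3] at e1
  rw [← e1, e2]

end PC1

theorem class_two [Finite X] {A : Subgroup (MulAut X)} (h : Hyp A) (hc : AllCentral A) :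
    (∀ x : X, x ^ 2 ∈ Subgroup.center X) ∧ (∀ x y : X, x * y * x⁻¹ * y⁻¹ ∈ Subgroup.center X) := by
  have : Fact (Nat.Prime 2) := ⟨Nat.prime_two⟩
  have : Group.IsNilpotent X := h.two.isNilpotent
  have hZW := PC1.ZW_le_center hc
  have hD : Subgroup.centralizer (PC1.W X : Set X) ≤ Subgroup.center X := by
    by_contra hcon
    obtain ⟨d, hdD, hdZ, hd⟩ := PC1.exists_second_center (Subgroup.centralizer (PC1.W X : Set X)) hcon
    obtain ⟨d', hd'D, hd'Z, hd'2, hd'⟩ := PC1.exists_last_power h.two _ hdD hdZ hd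
    exact hd'Z (hZW ⟨⟨hd'2, hd'⟩, hd'D⟩)
  refine ⟨fun x => hD ?_, fun x y => hD ?_⟩
  · rw [Subgroup.mem_centralizer_iff]
    intro w hw
    apply PC1.commute_of_commHom_eq_one hw.2
    rw [map_pow]
    apply Subtype.ext
    show ((PC1.commHom hw.2 x : Subgroup.center X) : X) ^ 2 = 1
    rw [PC1.commHom_apply, pow_two]
    exact PC1.sq_commutator_eq_one hw x
  · rw [Subgroup.mem_centralizer_iff]
    intro w hw
    apply PC1.commute_of_commHom_eq_one hw.2
    rw [map_mul, map_mul, map_mul, map_inv, map_inv,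
      mul_comm' (PC1.commHom hw.2 x) (PC1.commHom hw.2 y), mul_inv_cancel_right, mul_inv_cancel]

end Cfsg.Agent.Lib.Helper12.SC3
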